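import Cfsg.Agent.TwoClassCover.SixTools

/-!
Elements `g` of `Sp₆` with `g + g⁻¹ - c` nilpotent: invariant planes or normal forms.
-/

set_option autoImplicit false
set_option linter.style.haveILetI false

namespace CfsgLib.TwoClassCover.Six

open Module Matrix Polynomial CfsgLib.Classical.Symp

variable {F : Type*} [Field F]

local notation "V" => Fin 3 ⊕ Fin 3 → F
local notation "B" => Cfsg.sympForm 3 F
local notation "Sp" => Matrix.symplecticGroup (Fin 3) F

/-- `g + g⁻¹ - c`. -/
noncomputable def np (g : Sp) (c : F) : Module.End F V := adjSum g - algebraMap F _ c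

theorem np_apply (g : Sp) (c : F) (x : V) : np g c x = adjSum g x - c • x := by
  simp [np, Module.algebraMap_end_apply]

theorem np_symm (g : Sp) (c : F) (x y : V) : B (np g c x) y = B x (np g c y) := by
  rw [np_apply, np_apply, form_sub_left, form_sub_right, form_smul_left, form_smul_right, adjSum_symm]

theorem np_comm (g : Sp) (c : F) (x : V) : np g c (spEnd g x) = spEnd g (np g c x) := by
  rw [np_apply, np_apply, map_sub, map_smul]
  congr 1
  exact LinearMap.congr_fun (adjSum_commute g).eq x

theorem sq_eq (g : Sp) (c : F) (x : V) :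
    spEnd g (spEnd g x) = np g c (spEnd g x) + c • spEnd g x - x := by
  rw [np_apply, sub_add_cancel, ← spEnd_sq]

theorem self_np (h2 : (2 : F) ≠ 0) (g : Sp) (c : F) (x : V) : B (np g c x) x = 0 := by
  have h := np_symm g c x x
  rw [form_swap x] at h
  exact (mul_eq_zero.1 (show (2 : F) * B (np g c x) x = 0 by linear_combination h)).resolve_left h2

theorem np_pair (g : Sp) (c : F) (x y : V) :
    B x (spEnd g (np g c y)) = B (np g c x) (spEnd g y) := by
  rw [← np_comm, np_symm]

/-- The pairing `B(n² x, g x)`. -/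
noncomputable def beta (g : Sp) (c : F) (x : V) : F := B (np g c (np g c x)) (spEnd g x)

theorem beta_smul (g : Sp) (c k : F) (x : V) : beta g c (k • x) = k ^ 2 * beta g c x := by
  simp only [beta, map_smul, form_smul_left, form_smul_right]
  ring

theorem beta_lin (h2 : (2 : F) ≠ 0) {g : Sp} {c : F} (h3 : ∀ x, np g c (np g c (np g c x)) = 0)
    (p r : F) (x : V) :
    beta g c (p • x + r • spEnd g x) = (p ^ 2 + c * p * r + r ^ 2) * beta g c x := by
  have e1 : B (np g c (np g c x)) (spEnd g (spEnd g x)) = c * beta g c x := by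
    have e2 : B (np g c (np g c x)) (np g c (spEnd g x)) = 0 := by
      rw [← np_symm, h3, form_zero_left]
    have e3 : B (np g c (np g c x)) x = 0 := by rw [np_symm, form_self]
    rw [sq_eq g c, form_sub_right, form_add_right, form_smul_right, e2, e3, zero_add, sub_zero]
    rfl
  have e3 : B (np g c (np g c x)) x = 0 := by rw [np_symm, form_self]
  have _ := h2
  simp only [beta, map_add, map_smul, np_comm, form_add_left, form_add_right, form_smul_left,
    form_smul_right, spEnd_form, e1, e3]
  ring

/-- A vector with non-zero pairing. -/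
theorem exists_beta_ne [CharP F 3] {g : Sp} {c : F} (h3 : ∀ x, np g c (np g c (np g c x)) = 0)
    (hc : c ^ 2 ≠ 4 ∨ c = 2) (h2 : ∃ x, np g c (np g c x) ≠ 0) : ∃ x, beta g c x ≠ 0 := by
  by_contra! hzero
  obtain ⟨x0, hx0⟩ := h2
  have htwo : (2 : F) ≠ 0 := fun h => by
    have h3' : (3 : F) = 0 := by exact_mod_cast CharP.cast_eq_zero F 3
    exact one_ne_zero (show (1 : F) = 0 by linear_combination h3' - h)
  let n := np g c
  let E := spEnd g
  let E' := spEnd g⁻¹
  have hnE : n * E = E * n := LinearMap.ext (np_comm g c)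
  have hEE : E * E' = 1 := by rw [← map_mul, mul_inv_cancel, map_one]
  have hEE' : E' * E = 1 := by rw [← map_mul, inv_mul_cancel, map_one]
  have key : ∀ x, n (n (E x - E' x)) = 0 := by
    intro x
    refine eq_zero_of_form_eq_zero fun z => ?_
    have h := hzero (x + z)
    have hx := hzero x
    have hz := hzero z
    simp only [beta, map_add, form_add_left, form_add_right] at h hx hz
    have e1 : B (n (n z)) (E x) = B z (n (n (E x))) := by rw [np_symm, np_symm]
    have e2 : B (n (n x)) (E z) = B (n (n (E' x))) z := by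
      rw [np_symm, np_symm, show n (n (E z)) = E (n (n z)) by simp only [n, E, np_comm],
        ← spEnd_form g⁻¹, spEnd_inv_apply, ← np_symm, ← np_symm]
    rw [map_sub, map_sub, form_sub_left, form_swap (n (n (E x)))]
    simp only [n, E] at e1 e2 ⊢
    linear_combination e1 + e2 - h + hx + hz
  rcases hc with hc | rfl
  · refine hx0 ?_
    -- `(g - g⁻¹)² = (c + n)² - 4`
    have hsq : ∀ y, n (n (E (E y - E' y) - E' (E y - E' y))) = (c ^ 2 - 4) • n (n y) := by
      intro y
      have ha : ∀ y, E y + E' y = n y + c • y := fun y => by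
        simp [n, E, E', np_apply, adjSum]
      have hcomm : ∀ y, E (E' y) = y ∧ E' (E y) = y := fun y =>
        ⟨LinearMap.congr_fun hEE y, LinearMap.congr_fun hEE' y⟩
      have h4 : E (E y - E' y) - E' (E y - E' y) = n (n y) + (2 * c) • n y + (c ^ 2 - 4) • y := by
        have e1 := ha (E y)
        have e2 := ha (E' y)
        have e3 := ha y
        rw [(hcomm y).2] at e1
        rw [(hcomm y).1] at e2
        have e4 : n (E y) + n (E' y) = n (n y) + c • n y := by
          rw [← map_add, e3, map_add, map_smul]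
        rw [map_sub, map_sub, (hcomm y).1, (hcomm y).2]
        linear_combination (norm := module) e1 + e2 + e4 + c • e3
      have h5 : ∀ y, n (n (n y)) = 0 := h3
      rw [h4]
      simp only [map_add, map_smul, h5, map_zero, smul_zero, zero_add]
    have h6 := hsq x0
    rw [key] at h6
    exact (smul_eq_zero.1 h6.symm).resolve_left (sub_ne_zero.2 hc)
  · -- `c = 2`
    let N : Module.End F V := E - 1
    have hcN : Commute N E := ((Commute.refl E).sub_left (Commute.one_left E))
    have hcN' : Commute N E' := by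
      refine Commute.sub_left ?_ (Commute.one_left E')
      show E * E' = E' * E
      rw [hEE, hEE']
    have hn : n = N * N * E' := by
      show adjSum g - algebraMap F _ (2 : F) = _
      have e1 : E * E * E' = E := by rw [mul_assoc, hEE, mul_one]
      have e2 : algebraMap F (Module.End F V) (2 : F) = 1 + 1 := by
        rw [← map_one (algebraMap F (Module.End F V)), ← map_add]; norm_num
      rw [adjSum, e2]
      simp only [N, sub_mul, mul_sub, one_mul, mul_one, e1]
      rw [hEE]
      abel
    have hn2 : n * n = N ^ 4 * E' ^ 2 := by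
      rw [hn, ← sq, (hcN'.mul_left hcN').mul_pow, ← sq, ← pow_mul]
    have hn3 : n * n * n = N ^ 6 * E' ^ 3 := by
      rw [hn2, hn, mul_assoc, ← mul_assoc (E' ^ 2), ((hcN'.mul_left hcN').pow_right 2).symm.eq,
        mul_assoc, ← pow_succ, ← mul_assoc, ← sq, ← pow_add]
    have hN6 : N ^ 6 = 0 := by
      have h7 : n * n * n = 0 := LinearMap.ext fun x => h3 x
      rw [hn3] at h7
      have h8 := congrArg (fun T => T * E ^ 3) h7
      rw [zero_mul, mul_assoc, ← (show Commute E' E from hEE'.trans hEE.symm).mul_pow, hEE',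
        one_pow, mul_one] at h8
      exact h8
    have hN5 : N ^ 5 = 0 := by
      have h7 : n * n * (E - E') = 0 := LinearMap.ext fun x => key x
      have h8 : E - E' = N * (E + 1) * E' := by
        simp only [N, sub_mul, mul_add, mul_one, one_mul, add_mul, mul_assoc, hEE]
        abel
      rw [hn2, h8] at h7
      have h9 : N ^ 5 * (E + 1) = 0 := by
        have h10 := congrArg (fun T => T * (E * (E * E))) h7
        rw [zero_mul] at h10
        rw [← h10]
        have hEE2 : E' ^ 2 * (N * (E + 1) * E') * (E * (E * E)) = N * (E + 1) := by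
          have c1 : Commute E' (N * (E + 1)) :=
            (hcN'.symm.mul_right ((show Commute E' E from hEE'.trans hEE.symm).add_right
              (Commute.one_right E')))
          rw [show E' ^ 2 * (N * (E + 1) * E') = N * (E + 1) * (E' ^ 2 * E') by
            rw [← mul_assoc, (c1.pow_left 2).eq, mul_assoc]]
          rw [mul_assoc, ← pow_succ, show E * (E * E) = E ^ 3 by rw [pow_succ', pow_two],
            ← (show Commute E' E from hEE'.trans hEE.symm).mul_pow, hEE', one_pow, mul_one]
        rw [mul_assoc (N ^ 4), mul_assoc (N ^ 4), hEE2, ← mul_assoc, ← pow_succ]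
      have h11 : E + 1 = N + (2 : F) • (1 : Module.End F V) := by
        simp only [N, two_smul]; abel
      rw [h11, mul_add, ← pow_succ, hN6, zero_add, mul_smul_comm, mul_one] at h9
      exact (smul_eq_zero.1 h9).resolve_left htwo
    let T := n * n
    have hT : Even (finrank F (LinearMap.range T)) := even_finrank_range
      (fun a b => by simp only [T, Module.End.mul_apply]; rw [np_symm, np_symm])
      (fun a => by simp only [T, Module.End.mul_apply]; rw [np_symm, form_self])
    have hT0 : finrank F (LinearMap.range T) ≠ 0 := fun h => hx0 (by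
      have := LinearMap.range_eq_bot.1 (Submodule.finrank_eq_zero.1 h)
      exact LinearMap.congr_fun this x0)
    have h4 : finrank F (LinearMap.range T) = finrank F (LinearMap.range (N ^ 4)) := by
      refine congrArg (fun W : Submodule F V => finrank F W) ?_
      show LinearMap.range (n * n) = _
      rw [hn2, Module.End.mul_eq_comp]
      refine LinearMap.range_comp_of_range_eq_top _ (LinearMap.range_eq_top.2 fun y => ⟨(E ^ 2) y, ?_⟩)
      rw [← Module.End.mul_apply, ← (show Commute E' E from hEE'.trans hEE.symm).mul_pow, hEE',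
        one_pow, Module.End.one_apply]
    have hstep : ∀ k < 4, finrank F (LinearMap.range (N ^ (k + 1))) + 2 ≤
        finrank F (LinearMap.range (N ^ k)) := by
      intro k hk
      let R := LinearMap.range (N ^ k)
      let φ : R →ₗ[F] V := N.comp R.subtype
      have h5 := LinearMap.finrank_range_add_finrank_ker φ
      have h6 : LinearMap.range φ = LinearMap.range (N ^ (k + 1)) := by
        rw [pow_succ', Module.End.mul_eq_comp, LinearMap.range_comp, LinearMap.range_comp,
          Submodule.range_subtype]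
      have h7 : finrank F (LinearMap.range (N ^ 4)) ≤ finrank F (LinearMap.ker φ) := by
        rw [← Submodule.finrank_map_subtype_eq R (LinearMap.ker φ)]
        refine Submodule.finrank_mono ?_
        rintro _ ⟨y, rfl⟩
        have hy : (N ^ 4) y ∈ R := ⟨(N ^ (4 - k)) y, by
          rw [← Module.End.mul_apply, ← pow_add, Nat.add_sub_cancel' hk.le]⟩
        refine ⟨⟨_, hy⟩, ?_, rfl⟩
        show N ((N ^ 4) y) = 0
        rw [← Module.End.mul_apply, ← pow_succ', hN5, LinearMap.zero_apply]
      rw [h6] at h5
      have h5' : finrank F (LinearMap.range (N ^ (k + 1))) + finrank F (LinearMap.ker φ) =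
          finrank F (LinearMap.range (N ^ k)) := h5
      obtain ⟨r, hr⟩ := hT
      rw [h4] at hr hT0
      generalize finrank F (LinearMap.range (N ^ (k + 1))) = u1 at *
      generalize finrank F (LinearMap.range (N ^ k)) = u0 at *
      generalize finrank F (LinearMap.ker φ) = u2 at *
      omega
    have s0 := hstep 0 (by norm_num)
    have s1 := hstep 1 (by norm_num)
    have s2 := hstep 2 (by norm_num)
    have s3 := hstep 3 (by norm_num)
    have s4 := Submodule.finrank_le (LinearMap.range (N ^ 0))
    rw [Module.finrank_fintype_fun_eq_card, Fintype.card_sum, Fintype.card_fin] at s4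
    obtain ⟨r, hr⟩ := hT
    rw [h4] at hr hT0
    simp only [Nat.reduceAdd] at s0 s1 s2 s3
    omega

/-- Normalisation of the pairing. -/
theorem exists_normal (h2 : (2 : F) ≠ 0) {g : Sp} {c : F}
    (h3 : ∀ x, np g c (np g c (np g c x)) = 0) {x : V} {s : F} (hs : s ≠ 0)
    (hx : beta g c x = s) :
    ∃ w, B w (spEnd g w) = 0 ∧ B (np g c w) (spEnd g w) = 0 ∧ beta g c w = s := by
  set β0 := B x (spEnd g x)
  set β1 := B (np g c x) (spEnd g x)
  set p1 := -β1 / (2 * s) with hp1
  set p2 := -(β0 + 2 * p1 * β1 + p1 ^ 2 * s) / (2 * s) with hp2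
  have hx' : B (np g c (np g c x)) (spEnd g x) = s := hx
  refine ⟨x + p1 • np g c x + p2 • np g c (np g c x), ?_, ?_, ?_⟩
  · simp only [map_add, map_smul, form_add_left, form_add_right, form_smul_left, form_smul_right,
      np_pair, h3, form_zero_left, mul_zero, add_zero] at hx' ⊢
    rw [hx']
    rw [hp2, hp1]
    field_simp
    ring
  · simp only [map_add, map_smul, form_add_left, form_add_right, form_smul_left, form_smul_right,
      np_pair, h3, smul_zero, add_zero, form_zero_left, mul_zero] at hx' ⊢
    rw [hx']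
    rw [hp1]
    field_simp
    ring
  · simp only [beta, map_add, map_smul, form_add_left, form_add_right, form_smul_left,
      form_smul_right, np_pair, h3, smul_zero, add_zero, form_zero_left, map_zero,
      mul_zero] at hx' ⊢
    exact hx'

/-- The family attached to a vector. -/
noncomputable def fam (g : Sp) (c : F) (w : V) : Fin 6 → V :=
  ![w, np g c w, np g c (np g c w), spEnd g w, np g c (spEnd g w), np g c (np g c (spEnd g w))]

theorem fam_gram (h2 : (2 : F) ≠ 0) {g : Sp} {c : F} (h3 : ∀ x, np g c (np g c (np g c x)) = 0)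
    {w : V} {s : F} (h0 : B w (spEnd g w) = 0) (h1 : B (np g c w) (spEnd g w) = 0)
    (hs : beta g c w = s) (i j : Fin 6) :
    B (fam g c w i) (fam g c w j) =
      !![0, 0, 0, 0, 0, s; 0, 0, 0, 0, s, 0; 0, 0, 0, s, 0, 0;
         0, 0, -s, 0, 0, 0; 0, -s, 0, 0, 0, 0; -s, 0, 0, 0, 0, 0] i j := by
  have _ := h2
  have hs' : B (np g c (np g c w)) (spEnd g w) = s := hs
  have r0 : ∀ x, B x (np g c x) = 0 := fun x => by rw [← np_symm, self_np h2]
  have r1 : ∀ x, B (np g c x) (np g c (np g c x)) = 0 := fun x => r0 _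
  have r2 : ∀ x, B x (np g c (np g c x)) = 0 := fun x => by rw [← np_symm, form_self]
  have u01 : B w (np g c (spEnd g w)) = 0 := by rw [← np_symm, h1]
  have u02 : B w (np g c (np g c (spEnd g w))) = s := by rw [← np_symm, ← np_symm, hs']
  have u11 : B (np g c w) (np g c (spEnd g w)) = s := by rw [← np_symm, hs']
  have u12 : B (np g c w) (np g c (np g c (spEnd g w))) = 0 := by
    rw [← np_symm, ← np_symm, h3, form_zero_left]
  have u21 : B (np g c (np g c w)) (np g c (spEnd g w)) = 0 := by
    rw [← np_symm, h3, form_zero_left]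
  have u22 : B (np g c (np g c w)) (np g c (np g c (spEnd g w))) = 0 := by
    rw [← np_symm, h3, form_zero_left]
  fin_cases i <;> fin_cases j <;> simp [fam, form_self, r0, r1, r2, h0, h1, hs', u01, u02, u11,
    u12, u21, u22, form_swap (np g c w) w, form_swap (np g c (np g c w)) w,
    form_swap (np g c (np g c w)) (np g c w), form_swap (spEnd g w) w,
    form_swap (np g c (spEnd g w)) w, form_swap (np g c (np g c (spEnd g w))) w,
    form_swap (spEnd g w) (np g c w), form_swap (np g c (spEnd g w)) (np g c w),
    form_swap (np g c (np g c (spEnd g w))) (np g c w), form_swap (spEnd g w) (np g c (np g c w)),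
    form_swap (np g c (spEnd g w)) (np g c (np g c w)),
    form_swap (np g c (np g c (spEnd g w))) (np g c (np g c w)),
    form_swap (np g c (spEnd g w)) (spEnd g w), form_swap (np g c (np g c (spEnd g w))) (spEnd g w),
    form_swap (np g c (np g c (spEnd g w))) (np g c (spEnd g w))]

theorem fam_linearIndependent (h2 : (2 : F) ≠ 0) {g : Sp} {c : F}
    (h3 : ∀ x, np g c (np g c (np g c x)) = 0) {w : V} {s : F} (hs0 : s ≠ 0)
    (h0 : B w (spEnd g w) = 0) (h1 : B (np g c w) (spEnd g w) = 0) (hs : beta g c w = s) :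
    LinearIndependent F (fam g c w) := by
  rw [Fintype.linearIndependent_iff]
  intro a ha
  have key : ∀ j, ∑ i, a i * B (fam g c w i) (fam g c w j) = 0 := fun j => by
    calc ∑ i, a i * _ = B (∑ i, a i • fam g c w i) (fam g c w j) := by
          rw [form_swap, form_sum_right, ← Finset.sum_neg_distrib]
          exact Finset.sum_congr rfl fun i _ => by rw [form_smul_right, form_swap (fam g c w j)]; ring
      _ = 0 := by rw [ha, form_zero_left]
  simp only [fam_gram h2 h3 h0 h1 hs, Fin.sum_univ_six] at key
  have k0 := key 0; have k1 := key 1; have k2 := key 2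
  have k3 := key 3; have k4 := key 4; have k5 := key 5
  simp [hs0] at k0 k1 k2 k3 k4 k5
  intro i
  fin_cases i
  exacts [k5, k4, k3, k2, k1, k0]

theorem fam_action {g : Sp} {c : F} (h3 : ∀ x, np g c (np g c (np g c x)) = 0) (w : V) (i : Fin 6) :
    spEnd g (fam g c w i) = ∑ j,
      (!![0, 0, 0, 1, 0, 0; 0, 0, 0, 0, 1, 0; 0, 0, 0, 0, 0, 1;
          -1, 0, 0, c, 1, 0; 0, -1, 0, 0, c, 1; 0, 0, -1, 0, 0, c] i j) • fam g c w j := by
  rw [Fin.sum_univ_six]
  fin_cases i <;> simp [fam, np_comm, ← sub_eq_add_neg] <;>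
    simp only [← np_comm] <;> rw [sq_eq g c] <;>
    simp only [map_add, map_sub, map_smul, np_comm, h3, map_zero] <;>
    module

/-- Conjugacy from equal pairings. -/
theorem conj_of_beta (h2 : (2 : F) ≠ 0) {g g' : Sp} {c s : F}
    (h3 : ∀ x, np g c (np g c (np g c x)) = 0) (h3' : ∀ x, np g' c (np g' c (np g' c x)) = 0)
    (hs : s ≠ 0) {x x' : V} (hx : beta g c x = s) (hx' : beta g' c x' = s) :
    ∃ h : Sp, h * g * h⁻¹ = g' := by
  obtain ⟨w, a0, a1, a2⟩ := exists_normal h2 h3 hs hx
  obtain ⟨w', a0', a1', a2'⟩ := exists_normal h2 h3' hs hx'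
  exact exists_conj_of_families (fam_linearIndependent h2 h3 hs a0 a1 a2)
    (fam_linearIndependent h2 h3' hs a0' a1' a2')
    (fun i j => by rw [fam_gram h2 h3 a0 a1 a2, fam_gram h2 h3' a0' a1' a2'])
    (fun i => ⟨_, fam_action h3 w i, fam_action h3' w' i⟩)

/-- The binary form takes every value. -/
theorem exists_norm_value [Fintype F] [CharP F 3] {c : F} (hc : c ^ 2 ≠ 4) (t : F) :
    ∃ p r : F, p ^ 2 + c * p * r + r ^ 2 = t := by
  have h3' : (3 : F) = 0 := by exact_mod_cast CharP.cast_eq_zero F 3
  have htwo : (2 : F) ≠ 0 := fun h => one_ne_zero (show (1 : F) = 0 by linear_combination h3' - h)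
  have hk : (1 - c ^ 2) ≠ 0 := fun h => hc (by linear_combination -h - h3')
  have hf : (X ^ 2 : F[X]).degree = 2 := degree_X_pow 2
  have hg : (Polynomial.C (1 - c ^ 2) * X ^ 2 - Polynomial.C t : F[X]).degree = 2 := by
    rw [sub_eq_add_neg, ← Polynomial.C_neg]
    rw [degree_add_eq_left_of_degree_lt] <;> rw [degree_C_mul_X_pow 2 hk]
    · rfl
    · exact lt_of_le_of_lt degree_C_le (by norm_num)
  obtain ⟨a, b, hab⟩ := FiniteField.exists_root_sum_quadratic hf hg (by
    have h1 : ringChar F = 3 := ringChar.eq F 3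
    exact FiniteField.odd_card_of_char_ne_two (by omega))
  simp at hab
  refine ⟨a + c * b, b, ?_⟩
  linear_combination hab + (c * a * b + c ^ 2 * b ^ 2) * h3'

/-- Conjugacy when `c ≠ ±2`. -/
theorem conj_of_ne_four [Fintype F] [CharP F 3] {g g' : Sp} {c : F} (hc : c ^ 2 ≠ 4)
    (h3 : ∀ x, np g c (np g c (np g c x)) = 0) (h3' : ∀ x, np g' c (np g' c (np g' c x)) = 0)
    {x x' : V} (hx : beta g c x ≠ 0) (hx' : beta g' c x' ≠ 0) : ∃ h : Sp, h * g * h⁻¹ = g' := by
  have h3c : (3 : F) = 0 := by exact_mod_cast CharP.cast_eq_zero F 3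
  have htwo : (2 : F) ≠ 0 := fun h => one_ne_zero (show (1 : F) = 0 by linear_combination h3c - h)
  obtain ⟨p, r, hpr⟩ := exists_norm_value hc (beta g' c x' / beta g c x)
  refine conj_of_beta htwo h3 h3' hx' (x := p • x + r • spEnd g x) ?_ rfl
  rw [beta_lin htwo h3, hpr, div_mul_cancel₀ _ hx]

/-- An invariant plane when `n² = 0` and `c ≠ ±2`. -/
theorem plane_of_sq_zero [CharP F 3] {g : Sp} {c : F} (hc : c ^ 2 ≠ 4)
    (hn : ∀ x, np g c (np g c x) = 0) : HasPlane g := by
  have h3c : (3 : F) = 0 := by exact_mod_cast CharP.cast_eq_zero F 3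
  have htwo : (2 : F) ≠ 0 := fun h => one_ne_zero (show (1 : F) = 0 by linear_combination h3c - h)
  by_cases hx : ∃ x, np g c x = 0 ∧ B x (spEnd g x) ≠ 0
  · obtain ⟨x, hxn, hxg⟩ := hx
    refine hasPlane_of_ne_zero hxg (Submodule.subset_span (by simp)) ?_
    refine Submodule.mem_span_pair.2 ⟨-1, c, ?_⟩
    rw [sq_eq g c, np_comm, hxn, map_zero]
    module
  push Not at hx
  exfalso
  let T := np g c
  have hker : ∀ x ∈ LinearMap.ker T, ∀ y ∈ LinearMap.ker T, B x y = 0 := by
    intro x hx1 y hy1
    have hTg : ∀ z ∈ LinearMap.ker T, spEnd g z ∈ LinearMap.ker T := fun z hz => by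
      show np g c (spEnd g z) = 0
      rw [np_comm, show np g c z = 0 from hz, map_zero]
    -- polarisation
    have hpol : ∀ u ∈ LinearMap.ker T, ∀ v ∈ LinearMap.ker T,
        B u ((2 : F) • spEnd g v - c • v) = 0 := by
      intro u hu v hv
      have h := hx (u + v) (show T (u + v) = 0 by
        rw [map_add, show T u = 0 from hu, show T v = 0 from hv, add_zero])
      simp only [map_add, form_add_left, form_add_right, hx u hu, hx v hv] at h
      have h1 : B v (spEnd g u) = -(B u (c • v - spEnd g v)) := by
        have e : spEnd g⁻¹ v = c • v - spEnd g v := by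
          have e1 : np g c v = 0 := hv
          rw [np_apply, adjSum, LinearMap.add_apply, sub_eq_zero] at e1
          rw [← e1]; abel
        rw [← e, form_swap v, ← spEnd_form g⁻¹ (spEnd g u) v, spEnd_inv_apply]
      rw [h1] at h
      simp only [form_sub_right, form_smul_right] at h ⊢
      linear_combination h
    set d : F := c ^ 2 - 4 with hd
    have hy2 : ((2 : F) • spEnd g ((2 : F) • spEnd g y - c • y) -
        c • ((2 : F) • spEnd g y - c • y)) = d • y := by
      rw [map_sub, map_smul, map_smul, sq_eq g c, np_comm, show np g c y = 0 from hy1, map_zero, hd]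
      module
    have h := hpol x hx1 ((2 : F) • spEnd g y - c • y)
      (Submodule.sub_mem _ (Submodule.smul_mem _ _ (hTg y hy1)) (Submodule.smul_mem _ _ hy1))
    rw [hy2, form_smul_right] at h
    exact (mul_eq_zero.1 h).resolve_left (sub_ne_zero.2 hc)
  have h1 := isotropic_finrank_le _ hker
  obtain ⟨r, hr⟩ := even_finrank_range (T := T) (np_symm g c) (self_np htwo g c)
  have h2 := LinearMap.finrank_range_add_finrank_ker T
  rw [Module.finrank_fintype_fun_eq_card, Fintype.card_sum, Fintype.card_fin] at h2
  have h4 : LinearMap.range T ≤ LinearMap.ker T := by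
    rintro _ ⟨y, rfl⟩
    exact hn y
  have h5 := Submodule.finrank_mono h4
  omega

/-- `g - 1`. -/
noncomputable def nil1 (g : Sp) : Module.End F V := spEnd g - 1

theorem nil1_apply (g : Sp) (x : V) : nil1 g x = spEnd g x - x := rfl

theorem nil1_relation (g : Sp) (x y : V) :
    B (nil1 g x) (nil1 g y) + B (nil1 g x) y + B x (nil1 g y) = 0 := by
  simp only [nil1_apply, form_sub_left, form_sub_right, spEnd_form]
  ring

theorem np_two (g : Sp) (x : V) : spEnd g (np g 2 x) = nil1 g (nil1 g x) := by
  simp only [nil1_apply, np_apply, adjSum, LinearMap.add_apply, map_sub, map_add, map_smul,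
    spEnd_apply_inv]
  module

/-- An invariant plane or blocks of size three when `c = 2` and `n² = 0`. -/
theorem plane_or_three [CharP F 3] {g : Sp} (hn : ∀ x, np g 2 (np g 2 x) = 0) :
    HasPlane g ∨ ((∀ x, nil1 g (nil1 g (nil1 g x)) = 0) ∧ ∃ x, nil1 g (nil1 g x) ≠ 0) := by
  have h3c : (3 : F) = 0 := by exact_mod_cast CharP.cast_eq_zero F 3
  have htwo : (2 : F) ≠ 0 := fun h => one_ne_zero (show (1 : F) = 0 by linear_combination h3c - h)
  refine or_iff_not_imp_left.2 fun hpl => ?_
  have hiso : ∀ x, np g 2 x = 0 → B x (spEnd g x) = 0 := by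
    intro x hxn
    by_contra hxg
    refine hpl (hasPlane_of_ne_zero hxg (Submodule.subset_span (by simp)) ?_)
    refine Submodule.mem_span_pair.2 ⟨-1, 2, ?_⟩
    rw [sq_eq g 2, np_comm, hxn, map_zero]
    module
  have hfix : ∀ x y, spEnd g x = x → spEnd g y = y → B x y = 0 := by
    intro x y hx hy
    by_contra h
    exact hpl (hasPlane_of_ne_zero h (by rw [hx]; exact Submodule.subset_span (by simp))
      (by rw [hy]; exact Submodule.subset_span (by simp)))
  have hker : ∀ x, np g 2 x = 0 ↔ nil1 g (nil1 g x) = 0 := fun x => by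
    rw [← np_two]
    exact ⟨fun h => by rw [h, map_zero],
      fun h => mulVec_injective g (h.trans (map_zero (spEnd g)).symm)⟩
  let N := nil1 g
  let T := np g 2
  -- `N` maps the kernel of `N²` into its orthogonal
  have horth : ∀ x y, N (N x) = 0 → N (N y) = 0 → B x (N y) = 0 := by
    intro x y hx hy
    have hsum : np g 2 (x + y) = 0 := by rw [map_add, (hker x).2 hx, (hker y).2 hy, add_zero]
    have h := hiso (x + y) hsum
    simp only [map_add, form_add_left, form_add_right, hiso x ((hker x).2 hx),
      hiso y ((hker y).2 hy)] at h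
    have h1 : B y (spEnd g x) = -(B x (spEnd g⁻¹ y)) := by
      rw [form_swap y, ← spEnd_form g⁻¹ (spEnd g x) y, spEnd_inv_apply]
    have e : spEnd g⁻¹ y = y - N y := by
      have e1 := (hker y).2 hy
      rw [np_apply, adjSum, LinearMap.add_apply, sub_eq_zero] at e1
      rw [show N y = spEnd g y - y from rfl]
      linear_combination (norm := module) e1
    rw [h1, e, show spEnd g y = y + N y by rw [show N y = spEnd g y - y from rfl]; abel,
      form_add_right, form_sub_right] at h
    exact (mul_eq_zero.1 (show (2 : F) * B x (N y) = 0 by linear_combination h)).resolve_left htwo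
  refine ⟨fun x0 => ?_, ?_⟩
  · by_contra hN3
    let K2 := LinearMap.ker T
    let K1 := LinearMap.ker N
    obtain ⟨r, hr⟩ := even_finrank_range (T := T) (np_symm g 2) (self_np htwo g 2)
    have h1 := LinearMap.finrank_range_add_finrank_ker T
    rw [Module.finrank_fintype_fun_eq_card, Fintype.card_sum, Fintype.card_fin] at h1
    have h2 := Submodule.finrank_mono (show LinearMap.range T ≤ LinearMap.ker T by
      rintro _ ⟨y, rfl⟩; exact hn y)
    have hT0 : finrank F (LinearMap.range T) ≠ 0 := fun h => hN3 (by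
      have h0 := LinearMap.range_eq_bot.1 (Submodule.finrank_eq_zero.1 h)
      have : N (N x0) = 0 := (hker x0).1 (by rw [show np g 2 = 0 from h0]; rfl)
      show N (N (N x0)) = 0
      rw [this, map_zero])
    have hK2 : finrank F K2 = 4 := by show finrank F (LinearMap.ker T) = 4; omega
    -- the image of `K2`
    let φ : K2 →ₗ[F] V := N.comp K2.subtype
    have hφ := LinearMap.finrank_range_add_finrank_ker φ
    have hφle : LinearMap.range φ ≤ orthSub K2 := by
      rintro _ ⟨⟨y, hy⟩, rfl⟩ u hu
      exact horth u y ((hker u).1 hu) ((hker y).1 hy)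
    have hφ1 : finrank F (LinearMap.range φ) ≤ 1 := by
      have h4 := finrank_orthSub K2
      have h5 := Submodule.finrank_mono hφle
      by_contra h
      have heq : LinearMap.range φ = orthSub K2 := Submodule.eq_of_le_of_finrank_le hφle (by omega)
      have hmem : N (N x0) ∈ orthSub K2 := by
        intro u hu
        have e : N (N x0) = spEnd g (np g 2 x0) := (np_two g x0).symm
        rw [e, np_pair, show np g 2 u = 0 from hu, form_zero_left]
      rw [← heq] at hmem
      obtain ⟨⟨y, hy⟩, hy'⟩ := hmem
      refine hN3 ?_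
      show N (N (N x0)) = 0
      rw [← hy']
      exact (hker y).1 hy
    have hK1 : 3 ≤ finrank F K1 := by
      have h6 : finrank F (LinearMap.ker φ) ≤ finrank F K1 := by
        rw [← Submodule.finrank_map_subtype_eq K2 (LinearMap.ker φ)]
        refine Submodule.finrank_mono ?_
        rintro _ ⟨y, hy, rfl⟩
        exact hy
      omega
    have hR1 : LinearMap.range N ≤ orthSub K1 := by
      rintro _ ⟨y, rfl⟩ k hk
      have hk' : spEnd g k = k := sub_eq_zero.1 hk
      show B k (spEnd g y - y) = 0
      rw [form_sub_right]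
      nth_rewrite 1 [← hk']
      rw [spEnd_form, sub_self]
    have hle1 : K1 ≤ orthSub K1 := fun k hk u hu =>
      hfix u k (sub_eq_zero.1 hu) (sub_eq_zero.1 hk)
    have h7 : orthSub K1 = K1 := by
      refine (Submodule.eq_of_le_of_finrank_le hle1 ?_).symm
      have := finrank_orthSub K1
      omega
    refine hN3 ?_
    show N (N (N x0)) = 0
    have h8 : N x0 ∈ K1 := h7 ▸ hR1 ⟨x0, rfl⟩
    rw [show N (N x0) = 0 from h8, map_zero]
  · by_contra! h2
    have hn0 : ∀ x, np g 2 x = 0 := fun x => (hker x).2 (h2 x)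
    have hN0 : ∀ y, N y = 0 := fun y =>
      eq_zero_of_form_eq_zero fun z => by rw [form_swap, horth z y (h2 z) (h2 y), neg_zero]
    have hid : ∀ y, spEnd g y = y := fun y => sub_eq_zero.1 (hN0 y)
    exact one_ne_zero ((form_stdE_stdF (F := F) (0 : Fin 3) 0).symm.trans
      (by rw [hfix _ _ (hid _) (hid _)]))

/-- The normal family for blocks of size three. -/
noncomputable def fam3 (g : Sp) (x y : V) : Fin 6 → V :=
  ![x, nil1 g x, nil1 g (nil1 g x), y, nil1 g y, nil1 g (nil1 g y)]

theorem exists_three_normal [CharP F 3] {g : Sp} (h3 : ∀ x, nil1 g (nil1 g (nil1 g x)) = 0)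
    (h2 : ∃ x, nil1 g (nil1 g x) ≠ 0) :
    ∃ x y : V, ∀ i j, B (fam3 g x y i) (fam3 g x y j) =
      !![0, 0, 0, 0, 1, 1; 0, 0, 0, 0, -1, 0; 0, 0, 0, 1, 0, 0;
         0, 0, -1, 0, 0, 0; -1, 1, 0, 0, 0, 0; -1, 0, 0, 0, 0, 0] i j := by
  have h3c : (3 : F) = 0 := by exact_mod_cast CharP.cast_eq_zero F 3
  let N := nil1 g
  have R := nil1_relation g
  have i1 : ∀ x y, B (N (N x)) (N y) = 0 := fun x y => by
    have := R (N (N x)) y
    rw [h3, form_zero_left, form_zero_left, zero_add, zero_add] at this
    exact this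
  have i2 : ∀ x y, B (N (N x)) y = B x (N (N y)) := fun x y => by
    have e1 := R (N x) y
    have e2 := R x (N y)
    have e3 := i1 y x
    have e5 := form_swap (N x) (N (N y))
    have e4 := i1 x y
    simp only [N] at e3 e4 e5 ⊢
    linear_combination e1 - e2 - e4 + e5 - e3
  have i3 : ∀ x y, B (N x) (N (N y)) = 0 := fun x y => by rw [form_swap, i1, neg_zero]
  have i4 : ∀ x y, B (N x) (N y) = -(B (N (N x)) y) := fun x y => by
    have e1 := R (N x) y
    have e2 := i1 x y
    simp only [N] at e2 ⊢
    linear_combination e1 - e2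
  obtain ⟨x0, hx0⟩ := h2
  obtain ⟨y0, hy0⟩ := exists_form_eq_one hx0
  have alt : ∀ x, B (N (N x)) x = 0 := fun x => by
    have := i4 x x
    rw [form_self] at this
    linear_combination this
  have nsm : ∀ (a : F) (u v : V), N (u + a • v) = N u + a • N v := fun a u v => by
    rw [map_add, map_smul]
  -- clear `B(x, N x)`
  set k := B x0 (N x0) with hk
  set x := x0 + k • N y0 with hx
  have hxx : N (N x) = N (N x0) := by rw [hx, nsm, nsm, h3, smul_zero, add_zero]
  have hxy : B (N (N x)) y0 = 1 := by rw [hxx]; exact hy0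
  have hp : B x (N x) = 0 := by
    rw [hx, nsm, form_add_left, form_add_right, form_add_right, form_smul_left, form_smul_left,
      form_smul_right, form_smul_right, i3, i4 y0 x0, ← hk]
    have e1 : B x0 (N (N y0)) = 1 := by rw [← i2]; exact hy0
    have e2 : B (N (N y0)) x0 = -1 := by rw [form_swap, e1]
    simp only [N] at e1 e2 ⊢
    rw [e1, e2]
    linear_combination k * h3c
  clear_value x
  -- clear `B(y, N y)`
  set r := B y0 (N y0) with hr
  set y1 := y0 + (-r) • N x with hy1
  have hxy1 : B (N (N x)) y1 = 1 := by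
    rw [hy1, form_add_right, form_smul_right, i1, mul_zero, add_zero, hxy]
  have hq : B y1 (N y1) = 0 := by
    have e1 : B y0 (N (N x)) = -1 := by rw [form_swap, hxy]
    have e2 : B (N x) (N y0) = -1 := by rw [i4, hxy]
    rw [hy1, nsm, form_add_left, form_add_right, form_add_right, form_smul_left, form_smul_left,
      form_smul_right, form_smul_right, i3, e1, e2, ← hr]
    linear_combination r * h3c
  clear_value y1
  -- clear `B(N x, y)`
  set b := B (N x) y1 with hb
  set y2 := y1 + b • N y1 with hy2
  have hxy2 : B (N (N x)) y2 = 1 := by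
    rw [hy2, form_add_right, form_smul_right, i1, mul_zero, add_zero, hxy1]
  have hb2 : B (N x) y2 = 0 := by
    rw [hy2, form_add_right, form_smul_right, i4, hxy1, ← hb]
    ring
  have hq2 : B y2 (N y2) = 0 := by
    have e1 : B y1 (N (N y1)) = 0 := by rw [← i2, alt]
    rw [hy2, nsm, form_add_left, form_add_right, form_add_right, form_smul_left, form_smul_left,
      form_smul_right, form_smul_right, i3, e1, form_self, hq]
    ring
  clear_value y2
  -- clear `B(x, y)`
  set b0 := B x y2 with hb0
  set y := y2 + (-b0) • N (N y2) with hy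
  have hxy3 : B (N (N x)) y = 1 := by
    rw [hy, form_add_right, form_smul_right, i1, mul_zero, add_zero, hxy2]
  have hb3 : B (N x) y = 0 := by rw [hy, form_add_right, form_smul_right, i3, hb2]; ring
  have h00 : B x y = 0 := by
    have e1 : B x (N (N y2)) = 1 := by rw [← i2, hxy2]
    rw [hy, form_add_right, form_smul_right, e1, ← hb0]; ring
  have hq3 : B y (N y) = 0 := by
    rw [hy, nsm, h3, smul_zero, add_zero, form_add_left, form_smul_left, i1, hq2]
    ring
  clear_value y
  refine ⟨x, y, ?_⟩
  have c04 : B x (N y) = 1 := by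
    have e1 := R x y
    have e2 : B (N x) (N y) = -1 := by rw [i4, hxy3]
    simp only [N] at e1 e2 hb3 ⊢
    linear_combination e1 - e2 - hb3
  have c05 : B x (N (N y)) = 1 := by rw [← i2, hxy3]
  have c14 : B (N x) (N y) = -1 := by rw [i4, hxy3]
  have c15 : B (N x) (N (N y)) = 0 := i3 x y
  have c24 : B (N (N x)) (N y) = 0 := i1 x y
  have c25 : B (N (N x)) (N (N y)) = 0 := i1 x (N y)
  have c02 : B x (N (N x)) = 0 := by rw [← i2, alt]
  have c12 : B (N x) (N (N x)) = 0 := i3 x x
  have c35 : B y (N (N y)) = 0 := by rw [← i2, alt]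
  have c45 : B (N y) (N (N y)) = 0 := i3 y y
  intro i j
  fin_cases i <;> fin_cases j <;> simp [fam3, N, form_self, hp, hq3, hxy3, hb3, h00, c04, c05, c14,
    c15, c24, c25, c02, c12, c35, c45, form_swap (nil1 g x) x, form_swap (nil1 g (nil1 g x)) x,
    form_swap (nil1 g (nil1 g x)) (nil1 g x), form_swap (nil1 g y) y,
    form_swap (nil1 g (nil1 g y)) y, form_swap (nil1 g (nil1 g y)) (nil1 g y),
    form_swap y x, form_swap y (nil1 g x), form_swap y (nil1 g (nil1 g x)),
    form_swap (nil1 g y) x, form_swap (nil1 g y) (nil1 g x), form_swap (nil1 g y) (nil1 g (nil1 g x)),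
    form_swap (nil1 g (nil1 g y)) x, form_swap (nil1 g (nil1 g y)) (nil1 g x),
    form_swap (nil1 g (nil1 g y)) (nil1 g (nil1 g x))]

/-- Elements with two blocks of size three are conjugate. -/
theorem conj_three [CharP F 3] {g g' : Sp} (h3 : ∀ x, nil1 g (nil1 g (nil1 g x)) = 0)
    (h2 : ∃ x, nil1 g (nil1 g x) ≠ 0) (h3' : ∀ x, nil1 g' (nil1 g' (nil1 g' x)) = 0)
    (h2' : ∃ x, nil1 g' (nil1 g' x) ≠ 0) : ∃ h : Sp, h * g * h⁻¹ = g' := by
  obtain ⟨x, y, hG⟩ := exists_three_normal h3 h2
  obtain ⟨x', y', hG'⟩ := exists_three_normal h3' h2'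
  have hli : ∀ f : Fin 6 → V, (∀ i j, B (f i) (f j) =
      !![0, 0, 0, 0, 1, 1; 0, 0, 0, 0, -1, 0; 0, 0, 0, 1, 0, 0;
         0, 0, -1, 0, 0, 0; -1, 1, 0, 0, 0, 0; -1, 0, 0, 0, 0, 0] i j) →
      LinearIndependent F f := by
    intro f hf
    rw [Fintype.linearIndependent_iff]
    intro a ha
    have key : ∀ j, ∑ i, a i * B (f i) (f j) = 0 := fun j => by
      calc ∑ i, a i * _ = B (∑ i, a i • f i) (f j) := by
            rw [form_swap, form_sum_right, ← Finset.sum_neg_distrib]
            exact Finset.sum_congr rfl fun i _ => by rw [form_smul_right, form_swap (f j)]; ring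
        _ = 0 := by rw [ha, form_zero_left]
    simp only [hf, Fin.sum_univ_six] at key
    have k0 := key 0; have k1 := key 1; have k2 := key 2
    have k3 := key 3; have k4 := key 4; have k5 := key 5
    simp at k0 k1 k2 k3 k4 k5
    have e4 : a 4 = 0 := k1
    have e5 : a 5 = 0 := by linear_combination -k0 - e4
    have e1 : a 1 = 0 := by linear_combination k5 - k4
    intro i
    fin_cases i
    exacts [k5, e1, k3, k2, e4, e5]
  refine exists_conj_of_families (hli _ hG) (hli _ hG') (fun i j => by rw [hG, hG']) fun i =>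
    ⟨fun j => !![1, 1, 0, 0, 0, 0; 0, 1, 1, 0, 0, 0; 0, 0, 1, 0, 0, 0;
      0, 0, 0, 1, 1, 0; 0, 0, 0, 0, 1, 1; 0, 0, 0, 0, 0, 1] i j, ?_, ?_⟩ <;>
  · have e : ∀ (k : Sp) (z : V), spEnd k z = z + nil1 k z := fun k z => by
      rw [nil1_apply]; abel
    rw [Fin.sum_univ_six]
    fin_cases i <;> simp [fam3, e, h3, h3']

end CfsgLib.TwoClassCover.Six
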